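import Groth.Agent.Sga3.DerDim.Val
import Groth.Agent.Sga3.DerDim.Height
import Groth.Agent.DescentBase.DimEtale
import Groth.Agent.DescentBase.UnivOpenField
import Groth.Agent.AlgGrp1.BorelField
import Mathlib.AlgebraicGeometry.PullbackCarrier

/-!
The dimension of the closure of the values of sections does not increase under specialization.
-/

set_option autoImplicit false
set_option backward.isDefEq.respectTransparency false

universe u

open CategoryTheory CategoryTheory.Limits AlgebraicGeometry Topology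

noncomputable section

namespace Groth.Sga3.SectionClosure

/-- A closed subset of a fibre, cut out as a scheme. -/
theorem exists_fibre_closed {S Y : Scheme.{u}} (f : Y ⟶ S) (s : S) (T : Set Y) :
    ∃ (M : Scheme.{u}) (m : M ⟶ f.fiber s), IsClosedImmersion m ∧
      Set.range m.base = (f.fiberι s).base ⁻¹' closure T ∧
      topologicalKrullDim ↥(f.base ⁻¹' {s} ∩ closure T) = topologicalKrullDim ↥M := by
  let C : TopologicalSpace.Closeds (f.fiber s) :=
    ⟨(f.fiberι s).base ⁻¹' closure T, isClosed_closure.preimage (f.fiberι s).continuous⟩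
  let I := Scheme.IdealSheafData.vanishingIdeal C
  refine ⟨I.subscheme, I.subschemeι, inferInstance, ?_, ?_⟩
  · rw [Scheme.IdealSheafData.range_subschemeι, Scheme.IdealSheafData.coe_support_vanishingIdeal]
    rfl
  · have hE := (f.fiberι s).isEmbedding.comp I.subschemeι.isEmbedding
    have hr : Set.range ((f.fiberι s).base ∘ I.subschemeι.base) = f.base ⁻¹' {s} ∩ closure T := by
      rw [Set.range_comp, Scheme.IdealSheafData.range_subschemeι, Scheme.IdealSheafData.coe_support_vanishingIdeal]
      show (f.fiberι s).base '' ((f.fiberι s).base ⁻¹' closure T) = _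
      rw [Set.image_preimage_eq_range_inter, f.range_fiberι]
    exact ((hE.toHomeomorph.trans (Homeomorph.setCongr hr)).isHomeomorph.topologicalKrullDim_eq _).symm

theorem dim_le {S Y : Scheme.{u}} (f : Y ⟶ S) [QuasiCompact f] [QuasiSeparated f] [LocallyOfFiniteType f]
    {ι : Type u} (a : ι → (S ⟶ Y)) (ha : ∀ i, a i ≫ f = 𝟙 S) {s₀ s₁ : S} (h : s₁ ⤳ s₀) :
    topologicalKrullDim ↥(f.base ⁻¹' {s₀} ∩ closure (Set.range fun i => (a i).base s₀)) ≤
      topologicalKrullDim ↥(f.base ⁻¹' {s₁} ∩ closure (Set.range fun i => (a i).base s₁)) := by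
  obtain ⟨A, _, _, _, t, t₁, F, _, t₀, ψ, _, _, ht₁, ht₀, hp₁, hp₀⟩ :=
    Groth.Sga3.DerDim.exists_valuation_geomPt h
  obtain ⟨M, m, _, hm, hM⟩ := exists_fibre_closed f s₁ (Set.range fun i => (a i).base s₁)
  obtain ⟨M₀, m₀, _, hm₀, hM₀⟩ := exists_fibre_closed f s₀ (Set.range fun i => (a i).base s₀)
  rw [hM, hM₀]
  let Q := pullback f t
  let hQ : Q ⟶ Spec (CommRingCat.of A) := pullback.snd f t
  let fQ : Q ⟶ Y := pullback.fst f t
  have R : IsPullback fQ hQ f t := IsPullback.of_hasPullback f t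
  haveI : LocallyOfFiniteType hQ := inferInstanceAs (LocallyOfFiniteType (pullback.snd f t))
  haveI : QuasiSeparated hQ := inferInstanceAs (QuasiSeparated (pullback.snd f t))
  -- generic side
  let α : Spec (CommRingCat.of (AlgebraicClosure (S.residueField s₁))) ⟶ Spec (S.residueField s₁) :=
    Spec.map (CommRingCat.ofHom (algebraMap (S.residueField s₁) (AlgebraicClosure (S.residueField s₁))))
  let Y₁ := pullback (f.fiberToSpecResidueField s₁) α
  let g₁ : Y₁ ⟶ f.fiber s₁ := pullback.fst _ α
  have sqY₁ : IsPullback (g₁ ≫ f.fiberι s₁) (pullback.snd _ α) f (Red.geomPt s₁) :=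
    (IsPullback.of_hasPullback (f.fiberToSpecResidueField s₁) α).paste_horiz
      (IsPullback.of_hasPullback f (S.fromSpecResidueField s₁))
  let j₁ : Y₁ ⟶ Q := R.lift (g₁ ≫ f.fiberι s₁) (pullback.snd _ α ≫ t₁) (by simp only [Category.assoc, ht₁]; simpa only [Category.assoc] using sqY₁.w)
  have sq₁ : IsPullback j₁ (pullback.snd _ α) hQ t₁ := by
    refine IsPullback.of_right ?_ (R.lift_snd _ _ _) R
    rw [R.lift_fst, ht₁]
    exact sqY₁
  haveI : IsPreimmersion j₁ := MorphismProperty.of_isPullback sq₁.flip ‹IsPreimmersion t₁›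
  haveI : IsIntegralHom α := by
    rw [IsIntegralHom.SpecMap_iff]
    exact fun x => Algebra.IsIntegral.isIntegral x
  haveI : IsIntegralHom g₁ := MorphismProperty.pullback_fst _ _ ‹IsIntegralHom α›
  let N := pullback m g₁
  let n : N ⟶ Y₁ := pullback.snd m g₁
  let gN : N ⟶ M := pullback.fst m g₁
  haveI : IsClosedImmersion n := MorphismProperty.pullback_snd _ _ ‹IsClosedImmersion m›
  haveI : IsIntegralHom gN := MorphismProperty.pullback_fst _ _ ‹IsIntegralHom g₁›
  haveI : CompactSpace ↥Y₁ := by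
    haveI : QuasiCompact (pullback.snd (f.fiberToSpecResidueField s₁) α) :=
      MorphismProperty.pullback_snd _ _ (inferInstanceAs (QuasiCompact (pullback.snd f (S.fromSpecResidueField s₁))))
    exact QuasiCompact.compactSpace_of_compactSpace (pullback.snd (f.fiberToSpecResidueField s₁) α)
  haveI : CompactSpace ↥N := n.isClosedEmbedding.compactSpace
  let iQ : N ⟶ Q := n ≫ j₁
  haveI : QuasiCompact (iQ ≫ hQ) := (quasiCompact_iff_compactSpace _).2 ‹CompactSpace ↥N›
  haveI : QuasiCompact iQ := QuasiCompact.of_comp iQ hQ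
  have hbot : ∀ b, hQ.base (j₁.base b) = (⟨⊥, Ideal.isPrime_bot⟩ : PrimeSpectrum A) := fun b => by
    rw [← Scheme.Hom.comp_apply, sq₁.w, Scheme.Hom.comp_apply]
    exact hp₁ _
  have hfst₁ : ∀ b, fQ.base (j₁.base b) = (f.fiberι s₁).base (g₁.base b) := fun b => by
    rw [← Scheme.Hom.comp_apply, R.lift_fst, Scheme.Hom.comp_apply]
  have hrange : ∀ q, q ∈ Set.range iQ.base ↔ hQ.base q = (⟨⊥, Ideal.isPrime_bot⟩ : PrimeSpectrum A) ∧
      fQ.base q ∈ closure (Set.range fun i => (a i).base s₁) := by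
    intro q
    constructor
    · rintro ⟨v, rfl⟩
      have hv : g₁.base (n.base v) ∈ Set.range m.base :=
        ⟨gN.base v, by rw [← Scheme.Hom.comp_apply, pullback.condition, Scheme.Hom.comp_apply]⟩
      rw [hm] at hv
      rw [Scheme.Hom.comp_apply, hbot, hfst₁]
      exact ⟨rfl, hv⟩
    · rintro ⟨hq, hq'⟩
      obtain ⟨b, hb, -⟩ := Scheme.exists_preimage_of_isPullback sq₁ q (IsLocalRing.closedPoint _)
        (hq.trans (hp₁ _).symm)
      have hb' : b ∈ Set.range n.base := by
        show b ∈ Set.range (pullback.snd m g₁)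
        rw [Scheme.Pullback.range_snd, Set.mem_preimage, hm, Set.mem_preimage, ← hfst₁, hb]
        exact hq'
      obtain ⟨v, hv⟩ := hb'
      exact ⟨v, by rw [Scheme.Hom.comp_apply, hv, hb]⟩
  have hicl : ∀ q ∈ closure (Set.range iQ.base), hQ.base q = (⟨⊥, Ideal.isPrime_bot⟩ : PrimeSpectrum A) →
      q ∈ Set.range iQ.base := fun q hq hqb => (hrange q).2 ⟨hqb,
    closure_minimal (t := fQ.base ⁻¹' closure _) (fun x hx => ((hrange x).1 hx).2)
      (isClosed_closure.preimage fQ.continuous) hq⟩
  -- the sections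
  let σ : ι → (Spec (CommRingCat.of A) ⟶ Q) := fun i =>
    R.lift (t ≫ a i) (𝟙 _) (by rw [Category.assoc, ha, Category.comp_id, Category.id_comp])
  have hσ : ∀ i, IsPullback (σ i) t fQ (a i) := fun i => by
    refine IsPullback.of_right ?_ (R.lift_fst _ _ _) R.flip
    rw [R.lift_snd, ha]
    exact IsPullback.of_horiz_isIso ⟨by simp⟩
  -- special side
  let β : Spec (CommRingCat.of F) ⟶ Spec (S.residueField s₀) :=
    ψ ≫ Spec.map (CommRingCat.ofHom (algebraMap (S.residueField s₀) (AlgebraicClosure (S.residueField s₀))))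
  let Y₀ := pullback (f.fiberToSpecResidueField s₀) β
  let g₀ : Y₀ ⟶ f.fiber s₀ := pullback.fst _ β
  have sqY₀ : IsPullback (g₀ ≫ f.fiberι s₀) (pullback.snd _ β) f (β ≫ S.fromSpecResidueField s₀) :=
    (IsPullback.of_hasPullback (f.fiberToSpecResidueField s₀) β).paste_horiz
      (IsPullback.of_hasPullback f (S.fromSpecResidueField s₀))
  have ht₀' : t₀ ≫ t = β ≫ S.fromSpecResidueField s₀ := ht₀.trans (Category.assoc _ _ _).symm
  let e : Y₀ ⟶ Q := R.lift (g₀ ≫ f.fiberι s₀) (pullback.snd _ β ≫ t₀) (by simp only [Category.assoc, ht₀']; simpa only [Category.assoc] using sqY₀.w)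
  have sqe : IsPullback e (pullback.snd _ β) hQ t₀ := by
    refine IsPullback.of_right ?_ (R.lift_snd _ _ _) R
    rw [R.lift_fst, ht₀']
    exact sqY₀
  haveI : IsIntegralHom e := MorphismProperty.of_isPullback sqe.flip ‹IsIntegralHom t₀›
  have hclosed : ∀ b, hQ.base (e.base b) = IsLocalRing.closedPoint A := fun b => by
    rw [← Scheme.Hom.comp_apply, sqe.w, Scheme.Hom.comp_apply]
    exact hp₀ _
  have hfst₀ : ∀ b, fQ.base (e.base b) = (f.fiberι s₀).base (g₀.base b) := fun b => by
    rw [← Scheme.Hom.comp_apply, R.lift_fst, Scheme.Hom.comp_apply]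
  let φ : CommRingCat.of (S.residueField s₀) ⟶ CommRingCat.of F := Spec.preimage β
  have hφ : Spec.map φ = β := Spec.map_preimage β
  haveI : Flat β := Groth.AlgGrp1.flat_fieldMap β
  haveI : Surjective β := ⟨fun x => ⟨IsLocalRing.closedPoint F, Subsingleton.elim _ _⟩⟩
  haveI : UniversallyOpen β := Groth.DescentBase.universallyOpen_of_field _ β
  haveI : UniversallyOpen g₀ := MorphismProperty.pullback_fst _ _ ‹UniversallyOpen β›
  let D := pullback m₀ g₀
  let d : D ⟶ Y₀ := pullback.snd m₀ g₀
  let π : D ⟶ M₀ := pullback.fst m₀ g₀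
  haveI : IsClosedImmersion d := MorphismProperty.pullback_snd _ _ ‹IsClosedImmersion m₀›
  haveI : Flat g₀ := MorphismProperty.pullback_fst _ _ ‹Flat β›
  haveI : Surjective g₀ := MorphismProperty.pullback_fst _ _ ‹Surjective β›
  haveI : Flat π := MorphismProperty.pullback_fst _ _ ‹Flat g₀›
  haveI : Surjective π := MorphismProperty.pullback_fst _ _ ‹Surjective g₀›
  let j : D ⟶ Q := d ≫ e
  haveI : IsIntegralHom j := inferInstanceAs (IsIntegralHom (d ≫ e))
  have hsub : Set.range j.base ⊆ closure (Set.range iQ.base) := by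
    rintro _ ⟨p, rfl⟩
    rw [Scheme.Hom.comp_apply]
    have hp : g₀.base (d.base p) ∈ Set.range m₀.base :=
      ⟨π.base p, by rw [← Scheme.Hom.comp_apply, pullback.condition, Scheme.Hom.comp_apply]⟩
    rw [hm₀] at hp
    have hp' : g₀.base (d.base p) ∈ closure ((f.fiberι s₀).base ⁻¹' Set.range fun i => (a i).base s₀) := by
      rw [(f.fiberι s₀).isEmbedding.isInducing.closure_eq_preimage_closure_image,
        Set.image_preimage_eq_of_subset (by
          rintro _ ⟨i, rfl⟩
          rw [f.range_fiberι, Set.mem_preimage, Set.mem_singleton_iff, ← Scheme.Hom.comp_apply, ha]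
          rfl)]
      exact hp
    refine closure_minimal (t := e.base ⁻¹' closure (Set.range iQ.base)) ?_
      (isClosed_closure.preimage e.continuous) (g₀.isOpenMap.preimage_closure_subset_closure_preimage hp')
    rintro u ⟨i, hi⟩
    obtain ⟨b, hb, hb'⟩ := Scheme.exists_preimage_of_isPullback (hσ i) (e.base u) s₀
      ((hfst₀ u).trans hi.symm)
    have hbot' : (σ i).base (⟨⊥, Ideal.isPrime_bot⟩ : PrimeSpectrum A) ∈ Set.range iQ.base := by
      refine (hrange _).2 ⟨?_, subset_closure ⟨i, ?_⟩⟩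
      · rw [← Scheme.Hom.comp_apply, R.lift_snd]; rfl
      · rw [← Scheme.Hom.comp_apply, R.lift_fst, Scheme.Hom.comp_apply]
        refine congrArg (a i).base ?_
        rw [← hp₁ (IsLocalRing.closedPoint _), ← Scheme.Hom.comp_apply, ht₁, Scheme.Hom.comp_apply]
        exact (Scheme.fromSpecResidueField_apply s₁ _).symm
    have hsp : (⟨⊥, Ideal.isPrime_bot⟩ : PrimeSpectrum A) ⤳ b := by
      rw [← PrimeSpectrum.le_iff_specializes]
      exact bot_le (a := b.asIdeal)
    rw [Set.mem_preimage, ← hb]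
    exact (hsp.map (σ i).continuous).mem_closed isClosed_closure (subset_closure hbot')
  refine le_trans (Groth.DescentBase.topologicalKrullDim_le_of_generalizing π.base
    (Flat.generalizingMap π) π.surjective) ?_
  rw [Groth.Variety2.Dim.dim_eq_iSup_height, Groth.Variety2.Dim.dim_eq_iSup_height M]
  refine iSup_le fun x => ?_
  obtain ⟨_, ⟨v, -⟩⟩ : (Set.range iQ.base).Nonempty :=
    closure_nonempty_iff.1 ⟨_, hsub ⟨x, rfl⟩⟩
  haveI : Nonempty M := ⟨gN.base v⟩
  rw [← WithBot.coe_iSup (OrderTop.bddAbove _)]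
  refine WithBot.coe_le_coe.2 ?_
  exact Groth.Sga3.DerDim.height_le_of_closure hQ iQ (n ≫ j₁).isEmbedding (fun v => hbot (n.base v)) hicl
    (fun v => (Order.height_le_height_apply_of_strictMono _ (Groth.AlgSpBasic.strictMono_of_integral gN) v).trans
      (le_iSup (fun y : M => Order.height y) _))
    j (fun x => hclosed (d.base x)) hsub x

end Groth.Sga3.SectionClosure
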